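import Groth.Agent.CIPure21.Main
import Groth.Agent.PunctPure21.Extend
import Groth.Agent.PunctPure21.Basic
import Groth.Agent.Lib.FEt21.DepthTwo
import Groth.Agent.Lib.CIPres.Avramov
import Groth.Agent.Lib.CIPres.Relative
import Groth.Agent.Lib.AdicExtra.Completion
import Groth.Agent.Lib.EtBasicB.LocalRings
import Groth.Agent.Lib.SGA2Para.CI
import Groth.Agent.Lib.ExtDesc2.Basic
import Groth.Agent.S0247
import Groth.Prelude.Def_EtDepth
import Groth.Prelude.Def_SGA2

/-!
# Homotopic depth at least three outside an open subscheme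
-/

set_option autoImplicit false
set_option backward.isDefEq.respectTransparency false
set_option linter.all false

universe u

open CategoryTheory CategoryTheory.Limits AlgebraicGeometry IsLocalRing RingTheory.Sequence

noncomputable section

namespace GrothLib.HtpDepth13

theorem isRegularLocalRing_of_isField {k : Type u} [CommRing k] [IsLocalRing k] [IsNoetherianRing k]
    (h : IsField k) : IsRegularLocalRing k := by
  apply IsRegularLocalRing.of_spanFinrank_maximalIdeal_le
  rw [(IsLocalRing.isField_iff_maximalIdeal_eq).1 h, ringKrullDim_eq_zero_of_isField h]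
  simp

/-- Purity for rings whose completion is a complete intersection of dimension at least three. -/
theorem purityHolds_of_isCI (A : Type u) [CommRing A] [IsNoetherianRing A] [IsLocalRing A]
    (h : Pi1.IsCompleteIntersection A) (hdim : (3 : WithBot ℕ∞) ≤ ringKrullDim A) : FEt.PurityHolds A := by
  refine GrothLib.CIPure21.purityHolds_of_completion A ?_
  obtain ⟨B, _, _, rs, hm, hreg, ⟨e⟩⟩ := h
  have hk : RingHom.ker (e.symm.toRingHom.comp (Ideal.Quotient.mk _)) = Ideal.ofList rs := by
    rw [RingHom.ker_comp_of_injective _ e.symm.injective, Ideal.mk_ker]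
  refine GrothLib.CIPure21.purityHolds_of_ci rs.length B rs rfl hm hreg.toIsWeaklyRegular _ _
    (e.symm.surjective.comp Ideal.Quotient.mk_surjective) hk ?_
  rwa [GrothLib.AdicExtra.ringKrullDim_adicCompletion]

theorem depth_purity_regular (A : Type u) [CommRing A] [IsRegularLocalRing A]
    (hd : (2 : WithBot ℕ∞) ≤ ringKrullDim A) :
    (2 : ℕ∞) ≤ LocCoh.depth A A ∧ FEt.PurityHolds A :=
  ⟨GrothLib.SGA2Para.le_depth_of_ci A [] (by simp)
    (RingTheory.Sequence.IsWeaklyRegular.nil _ _) _ (RingHom.id _) Function.surjective_id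
    (by rw [Ideal.ofList_nil]; exact (RingHom.injective_iff_ker_eq_bot _).1 Function.injective_id) 2
    (by exact_mod_cast hd), Groth.Agent.S0247.result _ hd⟩

variable {X X' : Scheme.{u}} (g : X' ⟶ X) [Etale g] [IsLocallyNoetherian X]

theorem depth_purity_ci (x : X') (h : SGA2.IsAbsCompleteIntersection (X.presheaf.stalk (g x)))
    (hd : (3 : WithBot ℕ∞) ≤ ringKrullDim (X.presheaf.stalk (g x))) :
    (2 : ℕ∞) ≤ LocCoh.depth (X'.presheaf.stalk x) (X'.presheaf.stalk x) ∧
      FEt.PurityHolds (X'.presheaf.stalk x) := by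
  haveI : IsLocallyNoetherian X' := LocallyOfFiniteType.isLocallyNoetherian g
  obtain ⟨B, _, _, rs, hm, hreg, ⟨e⟩⟩ := h
  have hs := e.symm.surjective.comp (Ideal.Quotient.mk_surjective (I := Ideal.span {r | r ∈ rs}))
  have hk : RingHom.ker (e.symm.toRingHom.comp (Ideal.Quotient.mk _)) = Ideal.ofList rs := by
    rw [RingHom.ker_comp_of_injective _ e.symm.injective, Ideal.mk_ker]
  refine ⟨?_, ?_⟩
  · exact (GrothLib.SGA2Para.le_depth_of_ci B rs hm hreg.toIsWeaklyRegular _ _ hs hk 2
      (le_trans (by norm_num) hd)).trans (GrothLib.ExtDesc2.depth_le_of_flat g x)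
  · let R := (X.presheaf.stalk (g x) : Type u)
    let S := (X'.presheaf.stalk x : Type u)
    letI : Algebra R S := (g.stalkMap x).hom.toAlgebra
    obtain ⟨h1, h2, h3, h4⟩ := GrothLib.EtBasicB.stalk_properties g x
    haveI : IsLocalHom (algebraMap R S) := h1
    haveI : Module.Flat R S := h2
    haveI : Algebra.FormallyUnramified R S := h3
    haveI : Algebra.EssFiniteType R S := h4
    have hCI : Pi1.IsCompleteIntersection R :=
      (GrothLib.CIPres.isCI_iff_ker (R := B) (A := R) _ hs).2 ⟨rs, hk.symm, hreg⟩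
    let M := (maximalIdeal R).map (algebraMap R S)
    have hM : M = maximalIdeal S := Algebra.FormallyUnramified.map_maximalIdeal
    haveI : Nontrivial (S ⧸ M) := Ideal.Quotient.nontrivial_iff.2 (hM.symm ▸ (maximalIdeal.isMaximal S).ne_top)
    haveI : IsLocalRing (S ⧸ M) := IsLocalRing.of_surjective' (Ideal.Quotient.mk M) Ideal.Quotient.mk_surjective
    have hfield : IsField (S ⧸ M) :=
      (Ideal.Quotient.maximal_ideal_iff_isField_quotient M).1 (hM.symm ▸ maximalIdeal.isMaximal S)
    haveI : IsRegularLocalRing (S ⧸ M) := isRegularLocalRing_of_isField hfield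
    have hCI' : Pi1.IsCompleteIntersection S :=
      (GrothLib.CIPres.isCI_iff_of_flat (A := R) (B := S)).2 ⟨hCI, GrothLib.CIPres.isCI_of_regular _⟩
    exact purityHolds_of_isCI S hCI' (hd.trans_eq (GrothLib.EtBasicB.ringKrullDim_stalk_eq g x).symm)

theorem htpDepthGE3 {U : Scheme.{u}} (j : U ⟶ X) [IsOpenImmersion j]
    (h : (∀ x : X, IsRegularLocalRing (X.presheaf.stalk x)) ∧
        (∀ y : X, y ∉ Set.range j.base → (2 : WithBot ℕ∞) ≤ ringKrullDim (X.presheaf.stalk y)) ∨
      (∀ x : X, SGA2.IsAbsCompleteIntersection (X.presheaf.stalk x)) ∧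
        (∀ y : X, y ∉ Set.range j.base → (3 : WithBot ℕ∞) ≤ ringKrullDim (X.presheaf.stalk y))) :
    EtDepth.HtpDepthGE3 j := by
  intro X'' g' _
  haveI : IsLocallyNoetherian X'' := LocallyOfFiniteType.isLocallyNoetherian g'
  let sn : pullback j g' ⟶ X'' := pullback.snd j g'
  haveI : IsOpenImmersion sn := inferInstance
  let U' : X''.Opens := sn.opensRange
  have hout : ∀ x : X'', x ∉ U' → g' x ∉ Set.range j.base := fun x hx hgx => hx (by
    show x ∈ Set.range sn
    rw [Scheme.Pullback.range_snd]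
    exact hgx)
  have hdp : ∀ x : X'', x ∉ U' →
      (2 : ℕ∞) ≤ LocCoh.depth (X''.presheaf.stalk x) (X''.presheaf.stalk x) ∧
        FEt.PurityHolds (X''.presheaf.stalk x) := by
    intro x hx
    rcases h with ⟨hr, hd⟩ | ⟨hc, hd⟩
    · haveI := (GrothLib.EtBasicB.isRegularLocalRing_stalk_iff g' x).2 (hr _)
      exact depth_purity_regular _ ((hd _ (hout x hx)).trans_eq (GrothLib.EtBasicB.ringKrullDim_stalk_eq g' x).symm)
    · exact depth_purity_ci g' x (hc _) (hd _ (hout x hx))
  have hd2 : GrothLib.Depth.DepthTwoOutside U' := fun x hx => (hdp x hx).1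
  obtain ⟨h1, h2⟩ := GrothLib.FEt21.fullyFaithful_of_depthTwo hd2
  haveI := h1
  haveI := h2
  haveI := GrothLib.PunctPure21.essSurj_of_purity_depthTwo hd2 fun x hx => (hdp x hx).2
  have hU : (FEt.restrict U'.ι).IsEquivalence := { }
  refine GrothLib.PunctPure21.isEquivalence_comp sn.isoOpensRange.hom U'.ι sn ?_
    (GrothLib.PunctPure21.isEquivalence_of_isIso _) hU
  exact Scheme.Hom.isoOpensRange_hom_ι sn

end GrothLib.HtpDepth13
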